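import Mathlib
set_option autoImplicit false
universe u
open CategoryTheory CategoryTheory.Limits AlgebraicGeometry TopologicalSpace

namespace Groth.Agent.H5.Pure1

/-- In a T0 space all of whose irreducible components have dimension one, a non-closed point has
no proper generization. -/
theorem eq_of_specializes_of_not_isClosed {X : Type*} [TopologicalSpace X] [T0Space X]
    (hequi : ∀ Z ∈ irreducibleComponents X, topologicalKrullDim Z = 1)
    {y y' : X} (h : y' ⤳ y) (hy : ¬ IsClosed ({y} : Set X)) : y' = y := by
  by_contra hne
  obtain ⟨z, hz, hzy⟩ : ∃ z, z ∈ closure ({y} : Set X) ∧ z ≠ y := by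
    by_contra hcon
    push Not at hcon
    apply hy
    rw [← closure_subset_iff_isClosed]
    intro z hz
    exact hcon z hz
  have hyz : y ⤳ z := specializes_iff_mem_closure.2 hz
  have hZmem : irreducibleComponent y' ∈ irreducibleComponents X :=
    irreducibleComponent_mem_irreducibleComponents y'
  have hZcl : IsClosed (irreducibleComponent y') := isClosed_irreducibleComponent
  have hy'Z : y' ∈ irreducibleComponent y' := mem_irreducibleComponent
  have hyZ : y ∈ irreducibleComponent y' := h.mem_closed hZcl hy'Z
  have hzZ : z ∈ irreducibleComponent y' := hyz.mem_closed hZcl hyZ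
  have hle : topologicalKrullDim (irreducibleComponent y') ≤ 1 := (hequi _ hZmem).le
  rw [topologicalKrullDim, Order.krullDim_le_one_iff] at hle
  let a : irreducibleComponent y' := ⟨y, hyZ⟩
  let a' : irreducibleComponent y' := ⟨y', hy'Z⟩
  let b : irreducibleComponent y' := ⟨z, hzZ⟩
  have hab : a ⤳ b := (subtype_specializes_iff a b).2 hyz
  have ha'a : a' ⤳ a := (subtype_specializes_iff a' a).2 h
  let Cy : IrreducibleCloseds (irreducibleComponent y') :=
    ⟨closure {a}, isIrreducible_singleton.closure, isClosed_closure⟩
  let Cz : IrreducibleCloseds (irreducibleComponent y') :=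
    ⟨closure {b}, isIrreducible_singleton.closure, isClosed_closure⟩
  let Cy' : IrreducibleCloseds (irreducibleComponent y') :=
    ⟨closure {a'}, isIrreducible_singleton.closure, isClosed_closure⟩
  rcases hle Cy with hmin | hmax
  · have hle1 : Cz ≤ Cy := by
      intro t ht
      exact (specializes_iff_closure_subset.1 hab) ht
    have h2 := hmin hle1
    have h3 : a ∈ closure ({b} : Set _) := h2 (subset_closure rfl : a ∈ closure ({a} : Set _))
    have h4 : b ⤳ a := specializes_iff_mem_closure.2 h3
    have h5 : z ⤳ y := (subtype_specializes_iff _ _).1 h4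
    exact hzy (h5.antisymm hyz).eq
  · have hle1 : Cy ≤ Cy' := by
      intro t ht
      exact (specializes_iff_closure_subset.1 ha'a) ht
    have h2 := hmax hle1
    have h3 : a' ∈ closure ({a} : Set _) := h2 (subset_closure rfl : a' ∈ closure ({a'} : Set _))
    have h4 : a ⤳ a' := specializes_iff_mem_closure.2 h3
    have h5 : y ⤳ y' := (subtype_specializes_iff _ _).1 h4
    exact hne (h.antisymm h5).eq

/-- At a point with no proper generization of a reduced scheme, every non-unit of the local ring
vanishes (the local ring is a field). -/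
theorem eq_zero_of_not_isUnit_of_minimal (X : Scheme.{u}) [IsReduced X] (y : X)
    (hmin : ∀ y' : X, y' ⤳ y → y' = y) (a : X.presheaf.stalk y) (ha : ¬ IsUnit a) : a = 0 := by
  have hnil : IsNilpotent a := by
    rw [nilpotent_iff_mem_prime]
    intro J hJ
    let pt : Spec (X.presheaf.stalk y) := ⟨J, hJ⟩
    have hr : (X.fromSpecStalk y) pt ∈ Set.range (X.fromSpecStalk y) := ⟨pt, rfl⟩
    rw [Scheme.range_fromSpecStalk] at hr
    have h1 : (X.fromSpecStalk y) pt = y := hmin _ hr
    have h2 : (X.fromSpecStalk y) (IsLocalRing.closedPoint (X.presheaf.stalk y)) = y :=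
      Scheme.fromSpecStalk_closedPoint
    have hinj : Function.Injective (X.fromSpecStalk y) :=
      (Scheme.Hom.isEmbedding (X.fromSpecStalk y)).injective
    have h3 : pt = IsLocalRing.closedPoint (X.presheaf.stalk y) := hinj (h1.trans h2.symm)
    have h4 : J = IsLocalRing.maximalIdeal (X.presheaf.stalk y) := by
      have := congrArg PrimeSpectrum.asIdeal h3
      exact this
    rw [h4]
    exact (IsLocalRing.mem_maximalIdeal a).2 ha
  exact hnil.eq_zero

end Groth.Agent.H5.Pure1
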