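import Mathlib
import Groth.Agent.Lib.Helper5.Pure1.PureTop
import Groth.Agent.Lib.Helper5.Pure1.PureFin
import Groth.Agent.Lib.Helper5.SD.GGvb
import Groth.Agent.H4.SPt6
import Groth.Agent.Lib.Lead.QC.Extend
import Groth.Agent.Lib.Lead.QC.SerreSupp
import Groth.Agent.Lib.Lead.QC.SpanEpi
import Groth.Agent.Lib.Lead.QC.Stalk
import Groth.Prelude.Def_ShStab

set_option autoImplicit false
set_option linter.style.haveILetI false
universe u
open CategoryTheory CategoryTheory.Limits AlgebraicGeometry TopologicalSpace Opposite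

namespace Groth.Agent.H5.Pure1

open Groth.Agent.LD Groth.Agent.LD.QC

/-- at a non-closed point, a function vanishing on the support kills the stalk. -/
theorem germ_smul_eq_zero_of_not_isClosed (X : Scheme.{u}) [IsReduced X]
    (hequi : ∀ Z ∈ irreducibleComponents (X : Type u), topologicalKrullDim Z = 1)
    (J : X.Modules) (U : X.Opens) (f : Γ(X, U))
    (hf : ∀ x : X, x ∈ U → x ∈ CohB1.support J → x ∉ X.basicOpen f)
    (y : X) (hy : y ∈ U) (hncl : ¬ IsClosed ({y} : Set X)) (t : J.presheaf.stalk y) :
    X.presheaf.germ U y hy f • t = 0 := by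
  by_cases hs : Subsingleton (J.presheaf.stalk y)
  · exact Subsingleton.elim _ _
  · have h1 : y ∉ X.basicOpen f := hf y hy hs
    have h2 : ¬ IsUnit (X.presheaf.germ U y hy f) := by
      intro hu
      exact h1 ((Scheme.mem_basicOpen X f y hy).2 hu)
    have h3 : X.presheaf.germ U y hy f = 0 :=
      eq_zero_of_not_isUnit_of_minimal X y
        (fun y' hy' => eq_of_specializes_of_not_isClosed hequi hy' hncl) _ h2
    rw [h3, zero_smul]

/-- the set of points of `W` where the germ of a section does not vanish is relatively closed. -/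
theorem isOpen_germ_eq_zero {X : Scheme.{u}} (J : X.Modules) (W : X.Opens) (u : Γ(J, W)) :
    IsOpen ((W : Set X) \ {y | ∃ hy : y ∈ W, J.presheaf.germ W y hy u ≠ 0}) := by
  rw [isOpen_iff_forall_mem_open]
  rintro y ⟨hyW, hyS⟩
  have h0 : J.presheaf.germ W y hyW u = 0 := by
    by_contra hne
    exact hyS ⟨hyW, hne⟩
  have h1 : J.presheaf.germ W y hyW u = J.presheaf.germ W y hyW 0 := by rw [h0, map_zero]
  obtain ⟨V, hyV, i, i', hres⟩ := TopCat.Presheaf.germ_eq J.presheaf y hyW hyW u 0 h1
  refine ⟨(V : Set X), ?_, V.isOpen, hyV⟩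
  intro z hzV
  have hzW : z ∈ W := i.le hzV
  refine ⟨hzW, ?_⟩
  rintro ⟨hz, hne⟩
  apply hne
  have e1 : J.presheaf.germ W z hz u = J.presheaf.germ V z hzV (J.presheaf.map i.op u) :=
    (TopCat.Presheaf.germ_res_apply J.presheaf i z hzV u).symm
  rw [e1, hres, map_zero, map_zero]


/-- a section near a closed point whose germs vanish at the non-closed points has the same germ
at the point as a global section vanishing elsewhere. -/
theorem exists_global_section (X : Scheme.{u}) [IsNoetherian X] (J : X.Modules) (W : X.Opens)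
    (u : Γ(J, W))
    (hu : ∀ y (hy : y ∈ W), ¬ IsClosed ({y} : Set X) → J.presheaf.germ W y hy u = 0)
    (x : X) (hxW : x ∈ W) (hxcl : IsClosed ({x} : Set X)) :
    ∃ v : Γ(J, ⊤), J.presheaf.germ ⊤ x trivial v = J.presheaf.germ W x hxW u ∧
      ∀ y : X, y ≠ x → J.presheaf.germ ⊤ y trivial v = 0 := by
  have hSW : {y | ∃ hy : y ∈ W, J.presheaf.germ W y hy u ≠ 0} ⊆ (W : Set X) := fun y hy => hy.1
  have hScl : ∀ s ∈ {y | ∃ hy : y ∈ W, J.presheaf.germ W y hy u ≠ 0}, IsClosed ({s} : Set X) := by
    rintro s ⟨hs, hne⟩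
    by_contra hncl
    exact hne (hu s hs hncl)
  obtain ⟨W0, hW0o, hxW0, hW0W, hW0⟩ := exists_open_nhd_avoiding (W : Set X) _ W.isOpen hSW
    (isOpen_germ_eq_zero J W u) hScl x hxW
  let W' : X.Opens := ⟨W0, hW0o⟩
  have hW'W : W' ≤ W := hW0W
  let V : X.Opens := ⟨{x}ᶜ, hxcl.isOpen_compl⟩
  have hagree : J.presheaf.map (homOfLE (inf_le_left : W' ⊓ V ≤ W')).op
      (J.presheaf.map (homOfLE hW'W).op u) =
      J.presheaf.map (homOfLE (inf_le_right : W' ⊓ V ≤ V)).op (0 : Γ(J, V)) := by
    rw [map_zero]
    apply section_eq_zero_of_germ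
    intro y hy
    rw [germ_res J y inf_le_left hy, germ_res J y hW'W]
    by_contra hne
    exact hW0 y hy.1 hy.2 ⟨_, hne⟩
  obtain ⟨z, hz1, hz2⟩ := glue2 J (J.presheaf.map (homOfLE hW'W).op u) (0 : Γ(J, V)) hagree
  have htop : (⊤ : X.Opens) ≤ W' ⊔ V := by
    intro y _
    rw [← SetLike.mem_coe, Opens.coe_sup]
    by_cases hyx : y = x
    · left
      rw [hyx]
      exact hxW0
    · right
      exact hyx
  refine ⟨J.presheaf.map (homOfLE htop).op z, ?_, ?_⟩
  · rw [germ_res J x htop trivial z, ← germ_res J x hW'W hxW0 u, ← hz1,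
      germ_res J x le_sup_left hxW0 z]
  · intro y hyx
    have hyV : y ∈ V := hyx
    rw [germ_res J y htop trivial z, ← germ_res J y le_sup_right hyV z, hz2, map_zero]


theorem topologicalKrullDim_le_zero_of_subsingleton (T : Type*) [TopologicalSpace T]
    [Subsingleton T] : topologicalKrullDim T ≤ 0 := by
  haveI : Subsingleton (IrreducibleCloseds T) := by
    constructor
    intro C1 C2
    apply IrreducibleCloseds.ext
    ext t
    constructor
    · intro _
      obtain ⟨t', ht'⟩ := C2.isIrreducible.nonempty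
      rw [Subsingleton.elim t t']
      exact ht'
    · intro _
      obtain ⟨t', ht'⟩ := C1.isIrreducible.nonempty
      rw [Subsingleton.elim t t']
      exact ht'
  exact Order.krullDim_nonpos_of_subsingleton

/-- a global section of a pure one-dimensional coherent module whose germs vanish away from one
point vanishes. -/
theorem section_eq_zero_of_isPure (X : Scheme.{u}) [IsLocallyNoetherian X] (J : X.Modules)
    (hJc : Coh.IsCoh J) (hJp : ShStab.IsPure X J 1) (v : Γ(J, ⊤)) (x : X)
    (hv : ∀ y : X, y ≠ x → J.presheaf.germ ⊤ y trivial v = 0) : v = 0 := by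
  have hΦσ : ∀ y, y ≠ x → ∀ m : (unitMod X).presheaf.stalk y,
      (DerSch.stalkFunctor X y).map (homOfSection J v) m = 0 := by
    intro y hy m
    obtain ⟨W, hyW, b, rfl⟩ := (unitMod X).presheaf.exists_germ_eq (x := y) m
    rw [DerSch.stalkFunctor_map_germ]
    have e1 := unitHom_app J (homOfSection J v) W b
    rw [e1, germ_smul, homOfSection_app_one, germ_res, hv y hy]
    exact smul_zero (M := X.presheaf.stalk y) (A := J.presheaf.stalk y) _
  have hFc : Coh.IsCoh (Abelian.image (homOfSection J v)) :=
    isCoh_kernel (cokernel.π (homOfSection J v)) hJc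
      (isCoh_cokernel (homOfSection J v) (PF.isCoh_unitMod X) hJc)
  have hstalk : ∀ y, y ≠ x →
      Subsingleton ((Abelian.image (homOfSection J v)).presheaf.stalk y) := by
    intro y hy
    have hepi : Epi ((DerSch.stalkFunctor X y).map (Abelian.factorThruImage (homOfSection J v))) :=
      inferInstance
    have hmono : Mono ((DerSch.stalkFunctor X y).map (Abelian.image.ι (homOfSection J v))) :=
      inferInstance
    have hsurj := (ModuleCat.epi_iff_surjective _).1 hepi
    have hinj := (ModuleCat.mono_iff_injective _).1 hmono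
    have h0 : ∀ c : (DerSch.stalkFunctor X y).obj (Abelian.image (homOfSection J v)), c = 0 := by
      intro c
      obtain ⟨m, rfl⟩ := hsurj c
      apply hinj
      rw [map_zero]
      have h1 : (DerSch.stalkFunctor X y).map (Abelian.image.ι (homOfSection J v))
          ((DerSch.stalkFunctor X y).map (Abelian.factorThruImage (homOfSection J v)) m) =
          (DerSch.stalkFunctor X y).map (homOfSection J v) m := by
        rw [← ConcreteCategory.comp_apply, ← (DerSch.stalkFunctor X y).map_comp,
          Abelian.image.fac]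
      exact h1.trans (hΦσ y hy m)
    exact ⟨fun a b => (h0 a).trans (h0 b).symm⟩
  by_contra hvne
  have hFnz : ¬ IsZero (Abelian.image (homOfSection J v)) := by
    intro hz
    apply hvne
    have h1 : homOfSection J v = 0 := by
      rw [← Abelian.image.fac (homOfSection J v), hz.eq_of_tgt (Abelian.factorThruImage _) 0,
        zero_comp]
    have h2 := sectionOfHom_homOfSection J v
    rw [h1, sectionOfHom_zero] at h2
    exact h2.symm
  have hdim := hJp _ (Abelian.image.ι (homOfSection J v)) inferInstance hFc hFnz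
  haveI hsub : Subsingleton (CohB1.support (Abelian.image (homOfSection J v))) := by
    constructor
    rintro ⟨a, ha⟩ ⟨b, hb⟩
    have hax : a = x := by
      by_contra h
      exact ha (hstalk a h)
    have hbx : b = x := by
      by_contra h
      exact hb (hstalk b h)
    exact Subtype.ext (hax.trans hbx.symm)
  have hle := topologicalKrullDim_le_zero_of_subsingleton
    (CohB1.support (Abelian.image (homOfSection J v)))
  rw [hdim] at hle
  norm_num at hle


/-- **the ideal of the support annihilates a pure one-dimensional module on a reduced curve.** -/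
theorem germ_smul_eq_zero (k : Type u) [Field k] (X : Scheme.{u})
    [X.Over (Spec (CommRingCat.of k))] [IsProper (X ↘ Spec (CommRingCat.of k))] [IsReduced X]
    (hequi : ∀ Z ∈ irreducibleComponents (X : Type u), topologicalKrullDim Z = 1)
    (J : X.Modules) (hJc : Coh.IsCoh J) (hJp : ShStab.IsPure X J 1)
    (U : X.Opens) (f : Γ(X, U))
    (hf : ∀ x : X, x ∈ U → x ∈ CohB1.support J → x ∉ X.basicOpen f)
    (x : X) (hx : x ∈ U) (t : J.presheaf.stalk x) :
    X.presheaf.germ U x hx f • t = 0 := by
  haveI : IsNoetherian X := Groth.Agent.H5.Curve2.isNoetherian_of_proper k X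
  by_cases hxcl : IsClosed ({x} : Set X)
  · obtain ⟨W0, hxW0, s, rfl⟩ := J.presheaf.exists_germ_eq (x := x) t
    have hxW : x ∈ W0 ⊓ U := ⟨hxW0, hx⟩
    have hu : ∀ y (hy : y ∈ W0 ⊓ U), ¬ IsClosed ({y} : Set X) →
        J.presheaf.germ (W0 ⊓ U) y hy
          (X.presheaf.map (homOfLE (inf_le_right : W0 ⊓ U ≤ U)).op f •
            J.presheaf.map (homOfLE (inf_le_left : W0 ⊓ U ≤ W0)).op s) = 0 := by
      intro y hy hncl
      rw [germ_smul, sgerm_res]
      exact germ_smul_eq_zero_of_not_isClosed X hequi J U f hf y hy.2 hncl _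
    obtain ⟨v, hv1, hv2⟩ := exists_global_section X J (W0 ⊓ U) _ hu x hxW hxcl
    have hv0 := section_eq_zero_of_isPure X J hJc hJp v x hv2
    rw [hv0, map_zero, germ_smul, sgerm_res, germ_res] at hv1
    exact hv1.symm
  · exact germ_smul_eq_zero_of_not_isClosed X hequi J U f hf x hx hxcl t

end Groth.Agent.H5.Pure1
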